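import Cfsg.Agent.Lib.Sporadic.OutCert.JTwo.Check
import Cfsg.Agent.Lib.Sporadic.OutCert.Out
import Cfsg.Agent.Lib.Sporadic.Icosian.Spectrum

/-!
The outer automorphism group of the Hall-Janko group has order two.  An automorphism fixing the element
of order seven sends the root involution, which is central in a Sylow two-subgroup, to one of the 315
involutions of the lines, and the relations leave two orbits of candidates.
-/

set_option autoImplicit false
set_option maxRecDepth 10000

namespace CfsgLib.Sporadic.OutCert.JTwo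

open Cfsg CfsgLib.SmallGroups CfsgLib.Sporadic.Icosian

/-- The two ways of reading a packed permutation agree. -/
theorem rep_of_chain {p : ℕ} {σ : Equiv.Perm (Fin 100)} (h : PermChain.Rep p σ) : Rep 7 100 p σ := h

theorem aP_one : aP 1 = ka := rfl

attribute [local irreducible] lk pkF allF compK conjK ka kai kt sTree PermChain.sift

/-- The permutations of the hundred points. -/
abbrev P : Type := Equiv.Perm (Fin 100)

theorem hw : 100 ≤ 2 ^ 7 := by norm_num

theorem rep_invol (i : Ix) : Rep 7 100 (invK i) (invol i) := rep_of_chain (PermChain.rep_fst (invol_okAt i))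

/-- The element of order seven. -/
noncomputable def pA : P := PermChain.toPerm 100 (ka, kai)

/-- The root involution. -/
noncomputable def pB : P := invol 0

theorem rep_A : Rep 7 100 ka pA := rep_of_chain (PermChain.rep_fst (e := (ka, kai)) a_valid.2.2.1)

theorem rep_B : Rep 7 100 (invK 0) pB := rep_invol 0

theorem mem_J_of_sift {e : ℕ × ℕ} (h : PermChain.ok 100 e = true)
    (hs : PermChain.sift 100 (HallJankoData.level1 :: HallJanko.chain₁) e.1 = true) :
    PermChain.toPerm 100 e ∈ J :=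
  PermChain.mem_grp_of_sift _ _ _ HallJanko.check_chain (PermChain.rep_fst h) hs

theorem A_mem : pA ∈ J := mem_J_of_sift a_valid.2.2.1 a_valid.2.2.2.1

theorem invol_mem (i : Ix) : invol i ∈ J := J_eq_closure ▸ Subgroup.subset_closure ⟨i, rfl⟩

/-- The element of order seven in the group. -/
noncomputable def hA : J := ⟨pA, A_mem⟩

/-- The root involution in the group. -/
noncomputable def hB : J := ⟨pB, invol_mem 0⟩

/-- The element of a word. -/
noncomputable def wp (l : List Bool) : J := wordP hA hB l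

theorem coe_wp (l : List Bool) : ((wp l : J) : P) = wordP pA pB l := by
  induction l with
  | nil => rfl
  | cons c l ih =>
    simp only [wp, wordP, List.map_cons, List.prod_cons, Subgroup.coe_mul] at ih ⊢
    rw [ih]
    cases c <;> rfl

theorem rep_wp (l : List Bool) : Rep 7 100 (wk l) (wp l : P) := by
  rw [coe_wp]; exact rep_word hw rep_A rep_B l

theorem rep_aP {i : ℕ} (hi : i ≤ 7) : Rep 7 100 (aP i) (pA ^ i) := by
  have h := List.all_eq_true.1 a_pows i (List.mem_range.2 (by omega))
  rw [beq_iff_eq.1 h]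
  have e : wordP pA pB (List.replicate i false) = pA ^ i := by simp [wordP]
  exact e ▸ rep_word hw rep_A rep_B _

theorem orderOf_pA : orderOf pA = 7 := by
  have : Fact (Nat.Prime 7) := ⟨by norm_num⟩
  refine orderOf_eq_prime ?_ fun h => a_valid.2.2.2.2.2.1 ?_
  · have := (test_iff (List.Forall₂.cons rep_A List.Forall₂.nil) 7).1 a_valid.2.2.2.2.1
    simpa using this
  · have hk : ka = key 7 pA := by
      have h1 := List.all_eq_true.1 a_pows 1 (by decide)
      rw [beq_iff_eq] at h1
      rw [← aP_one, h1, wk, key_word hw rep_A rep_B]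
      simp [wordP]
    rw [hk, h, key_one]

theorem orderOf_hA : orderOf hA = 7 := by
  rw [← Subgroup.orderOf_coe]; exact orderOf_pA

theorem A_pow : pA ^ 7 = 1 := orderOf_pA ▸ pow_orderOf_eq_one pA

theorem closure_gen : Subgroup.closure ({hA, hB} : Set J) = ⊤ := by
  have hle : J ≤ (Subgroup.closure ({hA, hB} : Set J)).map J.subtype := by
    refine le_trans J_eq.le ((Subgroup.closure_le _).2 ?_)
    rintro _ ⟨j, rfl⟩
    have h := List.all_eq_true.1 root_words j (List.mem_range.2 j.isLt)
    rw [beq_iff_eq] at h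
    have hr := rep_wp (rootW.getD j [])
    rw [h] at hr
    refine ⟨wp (rootW.getD j []), ?_, hr.inj (rep_invol (root j))⟩
    refine Subgroup.list_prod_mem _ fun x hx => ?_
    obtain ⟨c, -, rfl⟩ := List.mem_map.1 hx
    exact Subgroup.subset_closure (by cases c <;> simp)
  rw [eq_top_iff]
  rintro x -
  obtain ⟨y, hy, e⟩ := hle x.2
  exact (show y = x from Subtype.ext e) ▸ hy

theorem norm_pow (j : ℕ) (h0 : 0 < j) (h7 : j < 7) : ∃ g : J, g * hA ^ j * g⁻¹ = hA := by
  have h := beq_iff_eq.1 (List.all_eq_true.1 norm_tab (j - 1) (List.mem_range.2 (by omega)))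
  rw [Nat.sub_add_cancel h0] at h
  refine ⟨wp (normW.getD (j - 1) []), Subtype.ext ?_⟩
  have hL := rep_comp hw (rep_wp (normW.getD (j - 1) [])) (rep_aP h7.le)
  rw [h] at hL
  have he := hL.inj (rep_comp hw rep_A (rep_wp _))
  simp only [Subgroup.coe_mul, Subgroup.coe_inv, Subgroup.coe_pow, hA]
  rw [he, mul_inv_cancel_right]

theorem root_conj (j : Fin 6) (i : Ix) : ∃ k : Ix, invol (root j) * invol i * (invol (root j))⁻¹ = invol k := by
  have h := of_decide_eq_true (List.all_eq_true.1 (List.all_eq_true.1 tgt_lt j (List.mem_finRange j)) i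
    (List.mem_finRange i))
  exact ⟨_, conj_spec j i h⟩

theorem conj_invol {g : P} (hg : g ∈ J) : ∀ i : Ix, ∃ k : Ix, g * invol i * g⁻¹ = invol k := by
  rw [J_eq, ← Subgroup.mem_toSubmonoid, Subgroup.closure_toSubmonoid_of_finite] at hg
  induction hg using Submonoid.closure_induction_left with
  | one => exact fun i => ⟨i, by simp⟩
  | mul_left x hx y _ ih =>
    obtain ⟨j, rfl⟩ := hx
    intro i
    obtain ⟨k, hk⟩ := ih i
    obtain ⟨l, hl⟩ := root_conj j k
    exact ⟨l, by rw [← hl, ← hk]; group⟩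

/-- The generators of the subgroup of order 128. -/
noncomputable def sList : List P := sPairs.map (PermChain.toPerm 100)

/-- The subgroup of order 128. -/
noncomputable def S0 : Subgroup P := Subgroup.closure {x | x ∈ sList}

theorem s_rep : List.Forall₂ (Rep 7 100) (sPairs.map Prod.fst) sList := by
  rw [sList, List.forall₂_map_left_iff, List.forall₂_map_right_iff, List.forall₂_same]
  intro e he
  have h := List.all_eq_true.1 s_pairs e he
  simp only [Bool.and_eq_true] at h
  exact rep_of_chain (PermChain.rep_fst h.1.1)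

theorem s_gen {x : P} (hx : x ∈ sList) : x ∈ J ∧ x * pB = pB * x := by
  obtain ⟨e, he, rfl⟩ := List.mem_map.1 hx
  have h := List.all_eq_true.1 s_pairs e he
  simp only [Bool.and_eq_true, beq_iff_eq] at h
  refine ⟨mem_J_of_sift h.1.1 h.1.2, ?_⟩
  have r := rep_of_chain (PermChain.rep_fst h.1.1)
  exact ((rep_comp hw r rep_B).inj (h.2.symm ▸ rep_comp hw rep_B r))

theorem s_clos : ClosCert 7 100 sTree (sPairs.map Prod.fst) := ⟨s_one, s_node, s_sorted.1⟩

theorem card_S0 : Nat.card S0 = 128 := (s_clos.card_eq hw s_rep).trans s_sorted.2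

theorem S0_le : S0 ≤ J := (Subgroup.closure_le _).2 fun _ hx => (s_gen hx).1

theorem S0_comm {x : P} (hx : x ∈ S0) : x * pB = pB * x := by
  have : S0 ≤ Subgroup.centralizer {pB} := by
    refine (Subgroup.closure_le _).2 fun y hy => Subgroup.mem_centralizer_iff.2 ?_
    rintro _ rfl
    exact (s_gen hy).2.symm
  exact (Subgroup.mem_centralizer_iff.1 (this hx) pB rfl).symm

theorem S0_center {x : P} (hx : x ∈ S0) (hc : ∀ g ∈ S0, g * x = x * g) : x = 1 ∨ x = pB := by
  obtain ⟨p, q, d, h⟩ := Tree.sound_of_has s_center (s_clos.has_key hw s_rep hx)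
  simp only [Bool.or_eq_true, beq_iff_eq, List.any_eq_true, Bool.not_eq_true', beq_eq_false_iff_ne] at h
  rcases h with (h | h) | ⟨k, hk, hne⟩
  · exact Or.inl ((rep_key hw x).inj (h.symm ▸ rep_one hw))
  · exact Or.inr ((rep_key hw x).inj (h.symm ▸ rep_B))
  · exfalso
    obtain ⟨i, hi, rfl⟩ := List.getElem_of_mem hk
    have hi' : i < sList.length := s_rep.length_eq ▸ hi
    have hr : Rep 7 100 ((sPairs.map Prod.fst)[i]) sList[i] := s_rep.get hi hi'
    refine hne ?_
    exact (key_comp hr (rep_key hw x)).trans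
      ((congrArg (key 7) (hc _ (Subgroup.subset_closure (List.getElem_mem hi')))).trans
        (key_comp (rep_key hw x) hr).symm)

theorem hB_ne : hB ≠ 1 := by
  intro e
  refine a_valid.2.2.2.2.2.2 ?_
  have hp : pB = 1 := congrArg Subtype.val e
  have h := List.all_eq_true.1 root_words 0 (by decide)
  rw [beq_iff_eq] at h
  have hr := rep_wp (rootW.getD 0 [])
  have h2 : wk (rootW.getD 0 []) = key 7 (wordP pA pB (rootW.getD 0 [])) := key_word hw rep_A rep_B _
  rw [h] at h2
  have h3 : ((wp (rootW.getD 0 []) : J) : P) = pB := (h ▸ hr : Rep 7 100 (invK 0) _).inj rep_B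
  rw [coe_wp] at h3
  rw [h2, h3, hp, key_one]

theorem image_listed (α : MulAut J) : ∃ i : Ix, ((α hB : J) : P) = invol i := by
  classical
  haveI : Fact (Nat.Prime 2) := ⟨Nat.prime_two⟩
  let T : Subgroup J := S0.subgroupOf J
  have hT : Nat.card T = 128 := by
    rw [Nat.card_congr (Subgroup.subgroupOfEquivOfLe S0_le).toEquiv, card_S0]
  have hf : (604800 : ℕ).factorization 2 = 7 := by
    refine le_antisymm ?_ ((Nat.prime_two.pow_dvd_iff_le_factorization (by norm_num)).1 (by norm_num))
    by_contra h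
    have := (Nat.prime_two.pow_dvd_iff_le_factorization (k := 8) (by norm_num : (604800 : ℕ) ≠ 0)).2 (by omega)
    norm_num at this
  have hcard : ∀ U : Subgroup J, Nat.card U = 128 → Nat.card U = 2 ^ (Nat.card J).factorization 2 :=
    fun U h => by rw [h, card_J, hf]; norm_num
  have hT' : Nat.card (T.map α.toMonoidHom) = 128 := by
    rw [← Nat.card_congr (T.equivMapOfInjective _ α.injective).toEquiv, hT]
  obtain ⟨g, hg⟩ := MulAction.exists_smul_eq J (Sylow.ofCard (T.map α.toMonoidHom) (hcard _ hT'))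
    (Sylow.ofCard T (hcard _ hT))
  have hset := congrArg (fun R : Sylow 2 J => (R : Subgroup J)) hg
  simp only [Sylow.coe_subgroup_smul] at hset
  have hmem : ∀ u : J, u ∈ T ↔ ∃ v ∈ T, g * α v * g⁻¹ = u := by
    intro u
    refine ⟨fun hu => ?_, ?_⟩
    · obtain ⟨_, ⟨v, hv, rfl⟩, rfl⟩ := (show _ = T from hset).symm ▸ hu
      exact ⟨v, hv, rfl⟩
    · rintro ⟨v, hv, rfl⟩
      exact (show _ = T from hset) ▸ ⟨α v, ⟨v, hv, rfl⟩, rfl⟩
  have hBT : hB ∈ T := by
    rw [Subgroup.mem_subgroupOf]
    obtain ⟨g, hg, hk⟩ := s_clos.exists_key hw s_rep (k := invK 0) (by decide +kernel)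
    have e : pB = g := rep_B.inj (hk.symm ▸ rep_key hw g)
    show pB ∈ S0
    rw [e]
    exact hg
  set y : J := g * α hB * g⁻¹ with hy
  have hyT : y ∈ T := (hmem y).2 ⟨hB, hBT, rfl⟩
  have hycomm : ∀ u ∈ S0, u * (y : P) = (y : P) * u := by
    intro u hu
    obtain ⟨v, hv, e⟩ := (hmem ⟨u, S0_le hu⟩).1 (Subgroup.mem_subgroupOf.2 hu)
    have hvb : v * hB = hB * v := Subtype.ext (S0_comm (Subgroup.mem_subgroupOf.1 hv))
    have : (⟨u, S0_le hu⟩ : J) * y = y * ⟨u, S0_le hu⟩ := by
      rw [← e, hy]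
      calc g * α v * g⁻¹ * (g * α hB * g⁻¹) = g * α (v * hB) * g⁻¹ := by rw [map_mul]; group
        _ = _ := by rw [hvb, map_mul]; group
    exact congrArg Subtype.val this
  have hy1 : y ≠ 1 := by
    rw [hy, Ne, conj_eq_one_iff, EmbeddingLike.map_eq_one_iff]
    exact hB_ne
  have hyB : (y : P) = pB :=
    (S0_center (Subgroup.mem_subgroupOf.1 hyT) hycomm).resolve_left fun e => hy1 (Subtype.ext e)
  obtain ⟨k, hk⟩ := conj_invol (inv_mem g.2) 0
  refine ⟨k, ?_⟩
  rw [← hk, show invol 0 = (y : P) from hyB.symm, hy]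
  simp [mul_assoc]

/-- The other image of the root involution. -/
noncomputable def hC : J := ⟨invol 100, invol_mem 100⟩

theorem pass_iff (i : Ix) : passK i = true ↔ ∀ t ∈ tests, (pA ^ t.1 * invol i) ^ t.2 = 1 := by
  rw [passK, List.all_eq_true]
  refine forall₂_congr fun t ht => ?_
  have h7 : t.1 ≤ 7 := by simp [tests] at ht; rcases ht with rfl | rfl | rfl <;> norm_num
  rw [test_iff (List.Forall₂.cons (rep_aP h7) (List.Forall₂.cons (rep_invol i) List.Forall₂.nil))]
  simp

theorem orbit_of_key {x : J} {i : ℕ} {i0 : Ix} (hx : Rep 7 100 i (x : P))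
    (h : (orbA i0).contains i = true) : ∃ n : ℕ, x = hA ^ n * ⟨invol i0, invol_mem i0⟩ * (hA ^ n)⁻¹ := by
  rw [List.contains_iff_mem, orbA, List.mem_map] at h
  obtain ⟨n, hn, rfl⟩ := h
  have hn' := List.mem_range.1 hn
  have hinv : pA ^ (7 - n) = (pA ^ n)⁻¹ := by
    refine eq_inv_of_mul_eq_one_left ?_
    rw [← pow_add, Nat.sub_add_cancel hn'.le]
    exact A_pow
  have hr := rep_conj hw (rep_aP hn'.le) (hinv ▸ rep_aP (Nat.sub_le 7 n)) (rep_invol i0)
  refine ⟨n, Subtype.ext ?_⟩
  simp only [Subgroup.coe_mul, Subgroup.coe_inv, Subgroup.coe_pow, hA]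
  exact hx.inj hr

theorem survivor (α : MulAut J) (hα : α hA = hA) :
    ∃ n : ℕ, α hB = hA ^ n * hB * (hA ^ n)⁻¹ ∨ α hB = hA ^ n * hC * (hA ^ n)⁻¹ := by
  obtain ⟨i, hi⟩ := image_listed α
  have hpass : passK i = true := by
    rw [pass_iff]
    intro t ht
    have h0 : (pA ^ t.1 * invol (0 : Ix)) ^ t.2 = 1 := (pass_iff 0).1 b_pass t ht
    have h1 : (hA ^ t.1 * hB) ^ t.2 = 1 := Subtype.ext h0
    have h2 := congrArg α h1
    rw [map_pow, map_mul, map_pow, hα, map_one] at h2
    have h3 := congrArg Subtype.val h2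
    simp only [Subgroup.coe_pow, Subgroup.coe_mul, hi, Subgroup.coe_one] at h3
    exact h3
  have h := List.all_eq_true.1 surv i (List.mem_range.2 i.isLt)
  simp only [hpass, Bool.not_true, Bool.false_or, Bool.or_eq_true] at h
  have hr : Rep 7 100 (invK i) (α hB : P) := hi.symm ▸ rep_invol i
  rcases h with h | h
  · obtain ⟨n, hn⟩ := orbit_of_key (i0 := 0) hr h
    exact ⟨n, Or.inl hn⟩
  · obtain ⟨n, hn⟩ := orbit_of_key (i0 := 100) hr h
    exact ⟨n, Or.inr hn⟩

/-- The outer involution. -/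
noncomputable def pT : P := permOf kt kt a_valid.2.1

theorem rep_T : Rep 7 100 kt pT := rep_permOf _

theorem T_root (j : Fin 6) : pT * invol (root j) * pT⁻¹ ∈ J := by
  have h := outer
  simp only [Bool.and_eq_true, List.all_eq_true, beq_iff_eq, Nat.blt_eq] at h
  have hlen : tImg.getD j 0 < 315 := by
    by_cases hj : (j : ℕ) < tImg.length
    · rw [List.getD_eq_getElem _ _ hj]; exact h.2.1 _ (List.getElem_mem hj)
    · rw [List.getD_eq_default _ _ (not_lt.1 hj)]; norm_num
  have hL := rep_comp hw rep_T (rep_invol (root j))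
  have hR := rep_comp hw (rep_invol ⟨_, hlen⟩) rep_T
  have hk : invK ((root j : Ix) : ℕ) = invK (j : ℕ) := rfl
  rw [hk, h.1 j (List.mem_range.2 j.isLt)] at hL
  rw [hL.inj hR, mul_inv_cancel_right]
  exact invol_mem _

theorem T_inv : pT⁻¹ = pT := (rep_permOf_inv a_valid.2.1).inj rep_T

theorem T_normalizes {g : P} (hg : g ∈ J) : pT * g * pT⁻¹ ∈ J := by
  have : J ≤ J.comap (MulAut.conj pT).toMonoidHom := by
    refine le_trans J_eq.le ((Subgroup.closure_le _).2 ?_)
    rintro _ ⟨j, rfl⟩
    exact T_root j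
  exact this hg

theorem T_not_mem : pT ∉ J := by
  intro hT
  obtain ⟨m, hm, e⟩ := Spectrum.small (mul_mem hT A_mem : pT * pA ∈ Spectrum.J)
  have h := outer
  simp only [Bool.and_eq_true, List.all_eq_true, Bool.not_eq_true'] at h
  have := (test_iff (List.Forall₂.cons rep_T (List.Forall₂.cons rep_A List.Forall₂.nil)) m).2 (by simpa using e)
  rw [h.2.2 m hm] at this
  exact Bool.false_ne_true this

theorem exists_outer : ∃ β : MulAut J, β ∉ Inn J := by
  refine ⟨{
    toFun := fun x => ⟨pT * (x : P) * pT⁻¹, T_normalizes x.2⟩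
    invFun := fun x => ⟨pT⁻¹ * (x : P) * pT, by
      have := T_normalizes x.2
      rwa [T_inv] at this ⊢⟩
    left_inv := fun x => Subtype.ext (by simp [mul_assoc])
    right_inv := fun x => Subtype.ext (by simp [mul_assoc])
    map_mul' := fun x y => Subtype.ext (by simp [mul_assoc]) }, ?_⟩
  rintro ⟨h, hh⟩
  have hcomm : ∀ g ∈ J, (h : P)⁻¹ * pT * g = g * ((h : P)⁻¹ * pT) := by
    intro g hg
    have e : (h : P) * g * (h : P)⁻¹ = pT * g * pT⁻¹ :=
      congrArg Subtype.val (DFunLike.congr_fun hh (⟨g, hg⟩ : J))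
    calc (h : P)⁻¹ * pT * g = (h : P)⁻¹ * (pT * g * pT⁻¹) * pT := by group
      _ = g * ((h : P)⁻¹ * pT) := by rw [← e]; group
  have reach : ∀ y : Fin 100, ∃ g ∈ J, g 0 = y := fun y => ⟨_, (wp (orbW.getD y [])).2, Fin.ext <| by
    have hr := rep_wp (orbW.getD y []) 0
    exact hr.symm.trans (beq_iff_eq.1 (List.all_eq_true.1 orb_reach y (List.mem_range.2 y.isLt)))⟩
  have hfix : ∀ y : Fin 100, (∀ g ∈ J, g 0 = 0 → g y = y) → y = 0 := by
    intro y hy
    obtain ⟨f0, f1, f⟩ := fixed
    have h0 := hy _ (wp u0).2 (Fin.ext ((rep_wp u0 0).symm.trans f0))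
    have h1 := hy _ (wp u1).2 (Fin.ext ((rep_wp u1 0).symm.trans f1))
    have hc := List.all_eq_true.1 f y (List.mem_range.2 y.2)
    rw [rep_wp u0 y, rep_wp u1 y, h0, h1] at hc
    simp only [BEq.rfl, Bool.not_true, Bool.or_false, beq_iff_eq] at hc
    exact Fin.ext hc
  have hone := perm_eq_one J 0 reach hfix _ hcomm
  rw [inv_mul_eq_one] at hone
  exact T_not_mem (hone ▸ h.2)

/-- The outer automorphism group of the Hall-Janko group has order two. -/
theorem card_out : Nat.card (Out Cfsg.Spor.J2) = 2 := by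
  rw [card_out_congr equivJ]
  haveI : Fact (Nat.Prime 7) := ⟨by norm_num⟩
  refine le_antisymm (card_out_le_two_of_fixed (p := 7) (by rw [card_J]; norm_num) orderOf_hA closure_gen 1 hC
    (fun j h0 h7 => (norm_pow j h0 h7).imp fun _ hg => Or.inl hg) survivor (fun α e => ?_)) ?_
  · rw [EmbeddingLike.map_eq_one_iff] at e
    have := orderOf_hA
    rw [e, orderOf_one] at this
    norm_num at this
  obtain ⟨β, hβ⟩ := exists_outer
  have : Nontrivial (Out J) :=
    ⟨⟨QuotientGroup.mk β, 1, fun e => hβ ((QuotientGroup.eq_one_iff β).1 e)⟩⟩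
  exact Finite.one_lt_card

end CfsgLib.Sporadic.OutCert.JTwo
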