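import Cfsg.Agent.Lib.Sporadic.OutCert.Closure
import Cfsg.Agent.Lib.Sporadic.OutCert.JTwo.Data
import Cfsg.Agent.Lib.Sporadic.Icosian.Group

/-!
Kernel checks of the data for the automorphisms of the Hall-Janko group.
-/

set_option autoImplicit false
set_option maxRecDepth 100000
set_option maxHeartbeats 0

namespace CfsgLib.Sporadic.OutCert.JTwo

open CfsgLib.SmallGroups CfsgLib.Sporadic.Icosian

/-- The number of a listed involution. -/
noncomputable def invK (i : ℕ) : ℕ := (involN i).1

/-- The number of a word in the two generators. -/
noncomputable def wk (l : List Bool) : ℕ := wordK 7 100 ka (invK 0) l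

/-- The number of a power of the generator of order seven. -/
noncomputable def aP (j : ℕ) : ℕ := aPows.getD j 0

/-- Exponents and periods of the tests. -/
def tests : List (ℕ × ℕ) := [(1, 10), (2, 7), (3, 15)]

/-- The tests at one involution. -/
noncomputable def passK (i : ℕ) : Bool := tests.all fun t => testK 7 100 [aP t.1, invK i] t.2

/-- The conjugates of an involution by the powers of the generator of order seven. -/
noncomputable def orbA (i : ℕ) : List ℕ :=
  (List.range 7).map fun k => conjK 7 100 (aP k) (aP (7 - k)) (invK i)

theorem a_valid : validK 7 100 ka kai = true ∧ validK 7 100 kt kt = true ∧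
    PermChain.ok 100 (ka, kai) = true ∧
    PermChain.sift 100 (HallJankoData.level1 :: HallJanko.chain₁) ka = true ∧
    testK 7 100 [ka] 7 = true ∧ ka ≠ oneK 7 100 ∧ invK 0 ≠ oneK 7 100 := by decide +kernel

theorem a_pows : ((List.range 8).all fun i => aP i == wk (List.replicate i false)) = true := by decide +kernel

theorem root_words : ((List.range 6).all fun j => wk (rootW.getD j []) == invK j) = true := by decide +kernel

theorem orb_reach : ((List.range 100).all fun i => lk 7 (wk (orbW.getD i [])) 0 == i) = true := by decide +kernel

theorem fixed : lk 7 (wk u0) 0 = 0 ∧ lk 7 (wk u1) 0 = 0 ∧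
    ((List.range 100).all fun i => i == 0 || !(lk 7 (wk u0) i == i) || !(lk 7 (wk u1) i == i)) = true := by
  decide +kernel

theorem norm_tab : ((List.range 6).all fun j =>
    compK 7 100 (wk (normW.getD j [])) (aP (j + 1)) == compK 7 100 ka (wk (normW.getD j []))) = true := by
  decide +kernel

theorem surv : ((List.range 315).all fun i =>
    !passK i || (orbA 0).contains (invK i) || (orbA 100).contains (invK i)) = true := by decide +kernel

theorem b_pass : passK 0 = true := by decide +kernel

theorem s_pairs : (sPairs.all fun e => PermChain.ok 100 e &&
    PermChain.sift 100 (HallJankoData.level1 :: HallJanko.chain₁) e.1 &&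
    (compK 7 100 e.1 (invK 0) == compK 7 100 (invK 0) e.1)) = true := by decide +kernel

theorem s_one : sTree.has (oneK 7 100) = true := by decide +kernel

theorem s_node : sTree.every (closeK 7 100 sTree (sPairs.map Prod.fst)) = true := by decide +kernel

theorem s_sorted : List.IsChain (· < ·) (sTree.entries.map Prod.fst) ∧ sTree.entries.length = 128 := by
  decide +kernel

theorem s_center : sTree.every (fun k _ _ _ => k == oneK 7 100 || k == invK 0 ||
    (sPairs.map Prod.fst).any fun g => !(compK 7 100 g k == compK 7 100 k g)) = true := by decide +kernel

theorem outer : (((List.range 6).all fun j =>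
    compK 7 100 kt (invK j) == compK 7 100 (invK (tImg.getD j 0)) kt) && ((tImg.all fun i => Nat.blt i 315) &&
    ([7, 8, 10, 12, 15].all fun m => !testK 7 100 [kt, ka] m))) = true := by decide +kernel

theorem tgt_lt : ((List.finRange 6).all fun j => (List.finRange 315).all fun i =>
    decide (tgt j i < 315)) = true := by decide +kernel

end CfsgLib.Sporadic.OutCert.JTwo
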